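import Groth.Prelude.Def_GSzMilK
import Mathlib.GroupTheory.Perm.Sign
import Mathlib.Algebra.Group.Subgroup.Finite
import Mathlib.Tactic.Abel
import Mathlib.Tactic.LinearCombination

/-!
Basic identities in Milnor K-theory: multilinearity of symbols, `{x, -x} = 0`, anticommutativity,
permutations, prepending an entry.
-/

set_option autoImplicit false
universe u v w

namespace Groth.L11.MilK

open _root_.MilK

variable {F : Type u} [Field F] {n : ℕ}

theorem symbol_update_mul (x : Fin n → Fˣ) (i : Fin n) (a b : Fˣ) :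
    (symbol (Function.update x i (a * b)) : K F n) =
      symbol (Function.update x i a) + symbol (Function.update x i b) := by
  have h : ∀ c : Fˣ, (fun j => Additive.ofMul (Function.update x i c j)) =
      Function.update (fun j => Additive.ofMul (x j)) i (Additive.ofMul c) :=
    fun c => Function.comp_update Additive.ofMul x i c
  unfold symbol
  rw [h, h, h, ← map_add, ofMul_mul, MultilinearMap.map_update_add]

/-- Symbols as a homomorphism in the `i`-th variable. -/
noncomputable def slot (x : Fin n → Fˣ) (i : Fin n) : Additive Fˣ →+ K F n :=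
  AddMonoidHom.mk' (fun a => symbol (Function.update x i a.toMul))
    fun a b => symbol_update_mul x i a.toMul b.toMul

theorem slot_apply (x : Fin n → Fˣ) (i : Fin n) (a : Fˣ) :
    slot x i (Additive.ofMul a) = symbol (Function.update x i a) := rfl

theorem symbol_eq_zero_of_one (x : Fin n → Fˣ) (i : Fin n) (h : x i = 1) : (symbol x : K F n) = 0 := by
  rw [← Function.update_eq_self i x, h, ← slot_apply, ofMul_one, map_zero]

theorem symbol_update_inv (x : Fin n → Fˣ) (i : Fin n) (a : Fˣ) :
    (symbol (Function.update x i a⁻¹) : K F n) = -symbol (Function.update x i a) := by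
  rw [← slot_apply, ← slot_apply, ofMul_inv, map_neg]

theorem symbol_update_zpow (x : Fin n → Fˣ) (i : Fin n) (a : Fˣ) (e : ℤ) :
    (symbol (Function.update x i (a ^ e)) : K F n) = e • symbol (Function.update x i a) := by
  rw [← slot_apply, ← slot_apply, ofMul_zpow, map_zsmul]

/-- `{…, a, …, -a, …} = 0`. -/
theorem symbol_eq_zero_of_neg {x : Fin n → Fˣ} {i j : Fin n} (hij : i < j) (h : x j = -x i) :
    (symbol x : K F n) = 0 := by
  by_cases h1 : x i = 1
  · exact symbol_eq_zero_of_one x i h1
  have hne : (x i : F) ≠ 1 := fun hh => h1 (Units.ext hh)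
  have hne' : ((x i)⁻¹ : Fˣ) ≠ (1 : Fˣ) := fun hh => h1 (inv_eq_one.mp hh)
  have hne'' : (((x i)⁻¹ : Fˣ) : F) ≠ 1 := fun hh => hne' (Units.ext hh)
  let p : Fˣ := Units.mk0 (1 - (x i : F)) (sub_ne_zero.mpr hne.symm)
  let q : Fˣ := Units.mk0 (1 - (((x i)⁻¹ : Fˣ) : F)) (sub_ne_zero.mpr hne''.symm)
  have hpq : x j = p * q⁻¹ := by
    rw [h, eq_mul_inv_iff_mul_eq]
    refine Units.ext ?_
    simp only [Units.val_mul, Units.val_neg, p, q, Units.val_mk0, Units.val_inv_eq_inv_val]
    field_simp
    ring
  have hp : (symbol (Function.update x j p) : K F n) = 0 :=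
    symbol_eq_zero_of_isSteinberg _ ⟨i, j, hij, by
      rw [Function.update_of_ne hij.ne, Function.update_self]
      simp [p]⟩
  have hq : (symbol (Function.update x j q) : K F n) = 0 := by
    have e1 : Function.update x j q = Function.update (Function.update x j q) i ((x i)⁻¹)⁻¹ := by
      rw [inv_inv, eq_comm, Function.update_eq_self_iff, Function.update_of_ne hij.ne]
    rw [e1, symbol_update_inv, symbol_eq_zero_of_isSteinberg _ ⟨i, j, hij, by
      rw [Function.update_self, Function.update_of_ne hij.ne', Function.update_self]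
      simp [q]⟩, neg_zero]
  rw [← Function.update_eq_self j x, hpq, symbol_update_mul, symbol_update_inv, hp, hq, neg_zero, add_zero]

theorem swap_eq_update (x : Fin n → Fˣ) {i j : Fin n} (hij : i ≠ j) :
    x ∘ Equiv.swap i j = Function.update (Function.update x i (x j)) j (x i) := by
  funext k
  rcases eq_or_ne k j with rfl | hk
  · simp
  rcases eq_or_ne k i with rfl | hk'
  · simp [hij]
  simp [hk, hk', Equiv.swap_apply_of_ne_of_ne]

theorem symbol_swap (x : Fin n → Fˣ) {i j : Fin n} (hij : i < j) :
    (symbol (x ∘ Equiv.swap i j) : K F n) = -symbol x := by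
  let X : Fˣ → Fˣ → Fin n → Fˣ := fun a b => Function.update (Function.update x i a) j b
  have hX : ∀ a, (symbol (X a (-a)) : K F n) = 0 := fun a =>
    symbol_eq_zero_of_neg hij (by simp [X, Function.update_of_ne hij.ne])
  have hr : ∀ a b c, (symbol (X a (b * c)) : K F n) = symbol (X a b) + symbol (X a c) :=
    fun a b c => symbol_update_mul _ j b c
  have hl : ∀ a b c, (symbol (X (b * c) a) : K F n) = symbol (X b a) + symbol (X c a) := fun a b c => by
    have : ∀ d, X d a = Function.update (Function.update x j a) i d := fun d => Function.update_comm hij.ne _ _ _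
    rw [this, this, this]; exact symbol_update_mul _ i b c
  have h0 := hX (x i * x j)
  rw [hl] at h0
  have e1 : -(x i * x j) = (-x i) * x j := (neg_mul _ _).symm
  have e2 : -(x i * x j) = x i * (-x j) := (mul_neg _ _).symm
  nth_rewrite 1 [e1] at h0
  rw [e2, hr, hr, hX, hX, zero_add, add_zero] at h0
  have hxx : X (x i) (x j) = x := by simp [X]
  rw [hxx] at h0
  rw [swap_eq_update x hij.ne]
  exact eq_neg_of_add_eq_zero_right h0

theorem symbol_perm (x : Fin n → Fˣ) (σ : Equiv.Perm (Fin n)) :
    (symbol (x ∘ σ) : K F n) = (Equiv.Perm.sign σ : ℤ) • symbol x := by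
  induction σ using Equiv.Perm.swap_induction_on' with
  | one => simp
  | mul_swap f a b hab ih =>
    have e : x ∘ (f * Equiv.swap a b) = (x ∘ f) ∘ Equiv.swap a b := rfl
    rw [e]
    rcases lt_or_gt_of_ne hab with h | h
    · rw [symbol_swap _ h, ih, Equiv.Perm.sign_mul, Equiv.Perm.sign_swap hab]; simp
    · rw [Equiv.swap_comm, symbol_swap _ h, ih, Equiv.Perm.sign_mul, Equiv.Perm.sign_swap (Ne.symm hab)]; simp

theorem closure_symbols :
    AddSubgroup.closure (Set.range (symbol : (Fin n → Fˣ) → K F n)) = ⊤ := by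
  rw [eq_top_iff]
  intro z _
  obtain ⟨t, rfl⟩ := mk_surjective F n z
  induction t using PiTensorProduct.induction_on with
  | smul_tprod r y =>
    rw [map_zsmul]
    have hm : mk F n (PiTensorProduct.tprod ℤ y) ∈ AddSubgroup.closure (Set.range (symbol : (Fin n → Fˣ) → K F n)) :=
      AddSubgroup.subset_closure ⟨fun i => (y i).toMul, (mk_tprod y).symm⟩
    exact zsmul_mem hm r
  | add a b ha hb => rw [map_add]; exact add_mem (ha trivial) (hb trivial)

theorem hom_ext {M : Type w} [AddCommGroup M] {f g : K F n →+ M}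
    (h : ∀ x : Fin n → Fˣ, f (symbol x) = g (symbol x)) : f = g :=
  AddMonoidHom.eq_of_eqOn_dense closure_symbols (by rintro _ ⟨x, rfl⟩; exact h x)

theorem induction_symbol {p : K F n → Prop} (z : K F n) (h0 : p 0)
    (hs : ∀ x : Fin n → Fˣ, p (symbol x)) (hadd : ∀ a b, p a → p b → p (a + b))
    (hneg : ∀ a, p a → p (-a)) : p z := by
  have hz : z ∈ AddSubgroup.closure (Set.range (symbol : (Fin n → Fˣ) → K F n)) := by rw [closure_symbols]; trivial
  induction hz using AddSubgroup.closure_induction with
  | mem x hx => obtain ⟨y, rfl⟩ := hx; exact hs y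
  | zero => exact h0
  | add a b _ _ ha hb => exact hadd a b ha hb
  | neg a _ ha => exact hneg a ha

/-- Prepending an entry. -/
noncomputable def pre (a : Fˣ) : K F n →+ K F (n + 1) :=
  (cast F (Nat.add_comm 1 n)).toAddMonoidHom.comp (mul F 1 n (symbol ![a]))

theorem pre_eq (a : Fˣ) (z : K F n) : pre a z = cast F (Nat.add_comm 1 n) (mul F 1 n (symbol ![a]) z) := rfl

theorem pre_symbol (a : Fˣ) (x : Fin n → Fˣ) : pre a (symbol x : K F n) = symbol (Fin.cons a x) := by
  rw [pre_eq, mul_symbol_symbol, cast_symbol]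
  congr 1
  funext k
  rw [Fin.append_left_eq_cons]
  simp [Matrix.cons_val_zero]

theorem pre_mul (a b : Fˣ) (z : K F n) : pre (a * b) z = pre a z + pre b z := by
  have h : (symbol ![a * b] : K F 1) = symbol ![a] + symbol ![b] := by
    have e : ∀ c : Fˣ, (![c] : Fin 1 → Fˣ) = Function.update ![a] 0 c := fun c => by
      funext k; rw [Subsingleton.elim k 0]; simp
    rw [e (a * b), e a, e b]
    simpa using symbol_update_mul ![a] 0 a b
  rw [pre_eq, pre_eq, pre_eq, h, map_add, AddMonoidHom.add_apply, map_add]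

theorem pre_one (z : K F n) : pre (1 : Fˣ) z = 0 := by
  have := pre_mul (1 : Fˣ) 1 z
  rwa [mul_one, left_eq_add] at this

theorem pre_inv (a : Fˣ) (z : K F n) : pre a⁻¹ z = -pre a z := by
  rw [eq_neg_iff_add_eq_zero, ← pre_mul, inv_mul_cancel, pre_one]

theorem pre_zpow (a : Fˣ) (e : ℤ) (z : K F n) : pre (a ^ e) z = e • pre a z :=
  map_zsmul (AddMonoidHom.mk' (fun c : Additive Fˣ => pre c.toMul z) fun _ _ => pre_mul _ _ z) e (Additive.ofMul a)

theorem pre_pre_comm (a b : Fˣ) (z : K F n) : pre a (pre b z) = -pre b (pre a z) := by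
  suffices (pre a).comp (pre b) = -((pre b).comp (pre a) : K F n →+ _) from DFunLike.congr_fun this z
  refine hom_ext fun x => ?_
  rw [AddMonoidHom.neg_apply, AddMonoidHom.comp_apply, AddMonoidHom.comp_apply, pre_symbol, pre_symbol, pre_symbol,
    pre_symbol]
  rw [← symbol_swap (Fin.cons b (Fin.cons a x)) (i := 0) (j := 1) (by simp)]
  congr 1
  funext k
  refine Fin.cases ?_ (fun k => Fin.cases ?_ (fun k => ?_) k) k
  · simp [Equiv.swap_apply_left, show (Fin.cons b (Fin.cons a x) : Fin (n + 2) → Fˣ) 1 = a from rfl]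
  · rw [Function.comp_apply, show Fin.succ (0 : Fin (n + 1)) = (1 : Fin (n + 2)) from rfl, Equiv.swap_apply_right]; rfl
  · rw [Function.comp_apply, Equiv.swap_apply_of_ne_of_ne (Fin.succ_ne_zero _)
      (show k.succ.succ ≠ (1 : Fin (n + 2)) from fun hk => Fin.succ_ne_zero k (Fin.succ_injective _ hk))]
    rfl

theorem pre_pre_neg (a : Fˣ) (z : K F n) : pre a (pre (-a) z) = 0 := by
  suffices (pre a).comp (pre (-a)) = (0 : K F n →+ _) from DFunLike.congr_fun this z
  refine hom_ext fun x => ?_
  rw [AddMonoidHom.comp_apply, pre_symbol, pre_symbol]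
  exact symbol_eq_zero_of_neg (i := 0) (j := 1) (by simp) rfl

theorem pre_pre_self (a : Fˣ) (z : K F n) : pre a (pre a z) = pre a (pre (-1) z) := by
  have h : pre (-a) z = pre (-1) z + pre a z := by rw [← pre_mul, neg_one_mul]
  have h0 := pre_pre_neg a z
  rw [h, map_add] at h0
  have h1 : pre a (pre (-1 : Fˣ) z) + pre a (pre (-1 : Fˣ) z) = 0 := by
    rw [← map_add, ← pre_mul, neg_one_mul, neg_neg, pre_one, map_zero]
  rw [eq_neg_of_add_eq_zero_right h0, ← eq_neg_of_add_eq_zero_right h1]

theorem pre_pre_steinberg (a b : Fˣ) (h : (a : F) + (b : F) = 1) (z : K F n) : pre a (pre b z) = 0 := by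
  suffices (pre a).comp (pre b) = (0 : K F n →+ _) from DFunLike.congr_fun this z
  refine hom_ext fun x => ?_
  rw [AddMonoidHom.comp_apply, pre_symbol, pre_symbol]
  exact symbol_eq_zero_of_isSteinberg _ ⟨0, 1, by simp, h⟩

theorem symbol_two (a b : Fˣ) : (symbol ![a, b] : K F 2) = pre a (pre b (symbol ![])) := by
  rw [pre_symbol, pre_symbol]
  rfl

theorem map_pre {E : Type v} [Field E] (φ : F →+* E) (a : Fˣ) (z : K F n) :
    map φ (n + 1) (pre a z) = pre (Units.map (φ : F →* E) a) (map φ n z) := by
  suffices (map φ (n + 1)).comp (pre a) = (pre (Units.map (φ : F →* E) a)).comp (map φ n) from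
    DFunLike.congr_fun this z
  refine hom_ext fun x => ?_
  rw [AddMonoidHom.comp_apply, AddMonoidHom.comp_apply, pre_symbol, map_symbol, map_symbol, pre_symbol]
  exact congrArg _ (funext fun k => Fin.cases rfl (fun _ => rfl) k)

end Groth.L11.MilK
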