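import Groth.Agent.L11.MilK.Basic
import Mathlib.LinearAlgebra.Multilinear.Curry
import Mathlib.RingTheory.DiscreteValuationRing.Basic
import Mathlib.RingTheory.Localization.FractionRing
import Mathlib.RingTheory.LocalRing.ResidueField.Basic

/-!
Construction of the tame symbol and the specialisation map of a discrete valuation, and the
generators of the Milnor K-groups of its fraction field.
-/

set_option autoImplicit false
universe u v w

namespace Groth.L11.MilK

open _root_.MilK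

variable {A : Type u} [CommRing A] [IsDomain A] [IsDiscreteValuationRing A]
  {L : Type v} [Field L] [Algebra A L] [IsFractionRing A L]

variable (L) in
/-- The image of a uniformiser in the fraction field. -/
noncomputable abbrev un (ϖ : A) (hϖ : Irreducible ϖ) : Lˣ := unitFrac A L ϖ hϖ.ne_zero

theorem unitToFrac_injective : Function.Injective (unitToFrac A L) := fun _ _ h =>
  Units.ext (IsFractionRing.injective A L (congrArg Units.val h))

variable {ϖ : A} (hϖ : Irreducible ϖ)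

include hϖ in
theorem exists_decomp (x : Lˣ) : ∃ (e : ℤ) (u : Aˣ), x = un L ϖ hϖ ^ e * unitToFrac A L u := by
  obtain ⟨a, b, hb, h⟩ := IsFractionRing.div_surjective (A := A) (x : L)
  have hb0 : b ≠ 0 := nonZeroDivisors.ne_zero hb
  have ha0 : a ≠ 0 := fun h0 => x.ne_zero (by rw [← h, h0, map_zero, zero_div])
  obtain ⟨i, u, hu⟩ := IsDiscreteValuationRing.eq_unit_mul_pow_irreducible ha0 hϖ
  obtain ⟨j, w, hw⟩ := IsDiscreteValuationRing.eq_unit_mul_pow_irreducible hb0 hϖ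
  refine ⟨(i : ℤ) - j, u * w⁻¹, ?_⟩
  have hx : x = (unitToFrac A L u * un L ϖ hϖ ^ i) * (unitToFrac A L w * un L ϖ hϖ ^ j)⁻¹ := by
    rw [eq_mul_inv_iff_mul_eq]
    refine Units.ext ?_
    simp only [Units.val_mul, Units.val_pow_eq_pow_val, coe_unitFrac, ← h]
    rw [show ((unitToFrac A L u : Lˣ) : L) = algebraMap A L u from rfl,
      show ((unitToFrac A L w : Lˣ) : L) = algebraMap A L w from rfl]
    rw [hu, hw]
    simp only [map_mul, map_pow]
    rw [div_mul_cancel₀]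
    rw [← map_pow, ← map_mul, ← hw]
    exact (map_ne_zero_iff _ (IsFractionRing.injective A L)).mpr hb0
  rw [hx, map_mul, map_inv, zpow_sub, zpow_natCast, zpow_natCast, mul_inv_rev]
  ac_rfl

include hϖ in
theorem decomp_unique {e e' : ℤ} {u u' : Aˣ}
    (h : un L ϖ hϖ ^ e * unitToFrac A L u = un L ϖ hϖ ^ e' * unitToFrac A L u') : e = e' ∧ u = u' := by
  have key : ∀ (d : ℕ) (w : Aˣ), un L ϖ hϖ ^ d = unitToFrac A L w → d = 0 := by
    intro d w hd
    by_contra h0
    have h1 : ϖ ^ d = w := IsFractionRing.injective A L (by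
      rw [map_pow]; simpa [unitToFrac] using congrArg Units.val hd)
    exact hϖ.not_isUnit ((isUnit_pow_iff h0).mp (h1 ▸ w.isUnit))
  have h2 : un L ϖ hϖ ^ (e - e') = unitToFrac A L (u' * u⁻¹) := by
    rw [zpow_sub, map_mul, map_inv, mul_inv_eq_iff_eq_mul, mul_right_comm, eq_mul_inv_iff_mul_eq, h, mul_comm]
  have he : e = e' := by
    rcases le_or_gt e' e with hle | hle
    · obtain ⟨d, hd⟩ := Int.le.dest hle
      rw [show e - e' = (d : ℤ) by omega, zpow_natCast] at h2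
      have := key d _ h2; omega
    · obtain ⟨d, hd⟩ := Int.le.dest hle.le
      rw [show e - e' = -(d : ℤ) by omega, zpow_neg, zpow_natCast, inv_eq_iff_eq_inv, ← map_inv] at h2
      have := key d _ h2; omega
  subst he
  exact ⟨rfl, unitToFrac_injective (mul_left_cancel h)⟩

/-- The valuation of a unit of the fraction field. -/
noncomputable def ev (x : Lˣ) : ℤ := (exists_decomp hϖ x).choose

/-- The reduction of the unit part. -/
noncomputable def rv (x : Lˣ) : (IsLocalRing.ResidueField A)ˣ :=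
  unitResidue A (exists_decomp hϖ x).choose_spec.choose

theorem ev_rv_eq (e : ℤ) (u : Aˣ) :
    ev hϖ (un L ϖ hϖ ^ e * unitToFrac A L u) = e ∧ rv hϖ (un L ϖ hϖ ^ e * unitToFrac A L u) = unitResidue A u := by
  obtain ⟨h1, h2⟩ := decomp_unique hϖ
    (exists_decomp hϖ (un L ϖ hϖ ^ e * unitToFrac A L u)).choose_spec.choose_spec
  exact ⟨h1.symm, congrArg (unitResidue A) h2.symm⟩

theorem ev_mul (x y : Lˣ) : ev hϖ (x * y) = ev hϖ x + ev hϖ y := by
  obtain ⟨e, u, rfl⟩ := exists_decomp hϖ x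
  obtain ⟨f, w, rfl⟩ := exists_decomp hϖ y
  rw [mul_mul_mul_comm, ← zpow_add, ← map_mul, (ev_rv_eq hϖ _ _).1, (ev_rv_eq hϖ _ _).1, (ev_rv_eq hϖ _ _).1]

theorem rv_mul (x y : Lˣ) : rv hϖ (x * y) = rv hϖ x * rv hϖ y := by
  obtain ⟨e, u, rfl⟩ := exists_decomp hϖ x
  obtain ⟨f, w, rfl⟩ := exists_decomp hϖ y
  rw [mul_mul_mul_comm, ← zpow_add, ← map_mul, (ev_rv_eq hϖ _ _).2, (ev_rv_eq hϖ _ _).2, (ev_rv_eq hϖ _ _).2, map_mul]

theorem ev_unit (u : Aˣ) : ev hϖ (unitToFrac A L u) = 0 ∧ rv hϖ (unitToFrac A L u) = unitResidue A u := by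
  simpa using ev_rv_eq (L := L) hϖ 0 u

theorem ev_un : ev hϖ (un L ϖ hϖ) = 1 ∧ rv hϖ (un L ϖ hϖ) = 1 := by
  simpa using ev_rv_eq (L := L) hϖ 1 1

local notation "κ" => IsLocalRing.ResidueField A

/-- The specialisation map on tuples. -/
noncomputable def Sm : (n : ℕ) → MultilinearMap ℤ (fun _ : Fin n => Additive Lˣ) (K κ n)
  | 0 => MultilinearMap.constOfIsEmpty ℤ _ (symbol ![])
  | n + 1 => LinearMap.uncurryLeft (AddMonoidHom.mk' (fun a : Additive Lˣ =>
      (pre (rv hϖ a.toMul)).toIntLinearMap.compMultilinearMap (Sm n)) fun a b =>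
        MultilinearMap.ext fun x => by
          simp [toMul_add, rv_mul, pre_mul]).toIntLinearMap

/-- The tame symbol on tuples. -/
noncomputable def Dm : (n : ℕ) → MultilinearMap ℤ (fun _ : Fin (n + 1) => Additive Lˣ) (K κ n)
  | 0 => LinearMap.uncurryLeft (AddMonoidHom.mk' (fun a : Additive Lˣ =>
      MultilinearMap.constOfIsEmpty ℤ (fun _ : Fin 0 => Additive Lˣ) (ev hϖ a.toMul • (symbol ![] : K κ 0))) fun a b =>
        MultilinearMap.ext fun x => by simp [toMul_add, ev_mul, add_zsmul]).toIntLinearMap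
  | n + 1 => LinearMap.uncurryLeft (AddMonoidHom.mk' (fun a : Additive Lˣ =>
      ev hϖ a.toMul • Sm hϖ (n + 1) - (pre (rv hϖ a.toMul)).toIntLinearMap.compMultilinearMap (Dm n)
        + ev hϖ a.toMul • (pre (-1)).toIntLinearMap.compMultilinearMap (Dm n)) fun a b =>
        MultilinearMap.ext fun x => by
          simp [toMul_add, ev_mul, rv_mul, pre_mul, add_zsmul]; abel).toIntLinearMap

/-- The specialisation of a tuple. -/
noncomputable def sv (n : ℕ) (x : Fin n → Lˣ) : K κ n := Sm hϖ n fun i => Additive.ofMul (x i)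

/-- The tame symbol of a tuple. -/
noncomputable def dv (n : ℕ) (x : Fin (n + 1) → Lˣ) : K κ n := Dm hϖ n fun i => Additive.ofMul (x i)

theorem sv_cons {n : ℕ} (a : Lˣ) (x : Fin n → Lˣ) :
    sv hϖ (n + 1) (Fin.cons a x) = pre (rv hϖ a) (sv hϖ n x) := by
  simp [sv, Sm, Fin.tail_def]

theorem dv_zero (x : Fin 1 → Lˣ) : dv hϖ 0 x = ev hϖ (x 0) • (symbol ![] : K κ 0) := by
  simp [dv, Dm]

theorem dv_cons {n : ℕ} (a : Lˣ) (x : Fin (n + 1) → Lˣ) :
    dv hϖ (n + 1) (Fin.cons a x) = ev hϖ a • sv hϖ (n + 1) x - pre (rv hϖ a) (dv hϖ n x)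
      + ev hϖ a • pre (-1) (dv hϖ n x) := by
  simp [dv, sv, Dm, Fin.tail_def]

theorem sv_swap {n : ℕ} (a b : Lˣ) (r : Fin n → Lˣ) :
    sv hϖ (n + 2) (Fin.cons a (Fin.cons b r)) = -sv hϖ (n + 2) (Fin.cons b (Fin.cons a r)) := by
  rw [sv_cons, sv_cons, sv_cons, sv_cons, pre_pre_comm]

theorem pre_two {F : Type w} [Field F] {n : ℕ} (z : K F n) : pre (-1 : Fˣ) z + pre (-1) z = 0 := by
  rw [← pre_mul, neg_one_mul, neg_neg, pre_one]

theorem pre_neg_one_sq {F : Type w} [Field F] {n : ℕ} (c : ℤ) (z : K F n) :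
    c • pre (-1 : Fˣ) z + c • pre (-1) z = 0 := by rw [← smul_add, pre_two, smul_zero]

theorem dv_swap : ∀ {n : ℕ} (a b : Lˣ) (r : Fin n → Lˣ),
    dv hϖ (n + 1) (Fin.cons a (Fin.cons b r)) = -dv hϖ (n + 1) (Fin.cons b (Fin.cons a r))
  | 0, a, b, r => by
    simp only [dv_cons, dv_zero, sv_cons, Fin.cons_zero, map_zsmul]
    set z := sv hϖ 0 r with hz
    have hz' : (symbol ![] : K κ 0) = z := rfl
    rw [hz']
    have h2 := pre_two (F := κ) z
    have : (ev hϖ a * ev hϖ b) • (pre (-1 : κˣ) z + pre (-1) z) = 0 := by rw [h2, smul_zero]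
    linear_combination (norm := module) this
  | n + 1, a, b, r => by
    simp only [dv_cons, sv_cons, map_zsmul, map_add, map_sub]
    set D := dv hϖ n r
    set S := sv hϖ (n + 1) r
    have h1 := pre_pre_comm (rv hϖ a) (rv hϖ b) D
    have h2 := pre_pre_comm (-1) (rv hϖ a) D
    have h3 := pre_pre_comm (-1) (rv hϖ b) D
    have h4 : (ev hϖ a * ev hϖ b) • (pre (-1 : κˣ) S + pre (-1) S) = 0 := by rw [pre_two, smul_zero]
    have h5 : (ev hϖ a * ev hϖ b) • (pre (-1 : κˣ) (pre (-1) D) + pre (-1) (pre (-1) D)) = 0 := by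
      rw [pre_two, smul_zero]
    rw [h1, h2, h3]
    linear_combination (norm := module) h4 + h5

theorem steinberg_key (a b : Lˣ) (h : (a : L) + (b : L) = 1) :
    (0 < ev hϖ a ∧ ev hϖ b = 0 ∧ rv hϖ b = 1) ∨ (0 < ev hϖ b ∧ ev hϖ a = 0 ∧ rv hϖ a = 1) ∨
      (ev hϖ a = ev hϖ b ∧ ev hϖ a < 0 ∧ rv hϖ b = -rv hϖ a) ∨
      (ev hϖ a = 0 ∧ ev hϖ b = 0 ∧ (rv hϖ a : κ) + (rv hϖ b : κ) = 1) := by
  have pos : ∀ c d : Lˣ, (c : L) + (d : L) = 1 → 0 < ev hϖ c → ev hϖ d = 0 ∧ rv hϖ d = 1 := by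
    intro c d hcd hc
    obtain ⟨e, u, rfl⟩ := exists_decomp hϖ c
    rw [(ev_rv_eq hϖ e u).1] at hc
    obtain ⟨m, rfl⟩ := Int.eq_ofNat_of_zero_le hc.le
    have hm : m ≠ 0 := by rintro rfl; simp at hc
    have hmem : ϖ ^ m * (u : A) ∈ IsLocalRing.maximalIdeal A :=
      Ideal.mul_mem_right _ _ (Ideal.pow_mem_of_mem _ hϖ.not_isUnit m (Nat.pos_of_ne_zero hm))
    obtain ⟨w, hw⟩ := IsLocalRing.isUnit_one_sub_self_of_mem_nonunits (ϖ ^ m * (u : A)) hmem
    have hd : d = unitToFrac A L w := by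
      refine Units.ext ?_
      change (d : L) = algebraMap A L w
      rw [hw, map_sub, map_one, map_mul, map_pow, eq_sub_iff_add_eq, add_comm, ← hcd]
      simp [unitToFrac]
    rw [hd, (ev_unit hϖ w).1, (ev_unit hϖ w).2]
    refine ⟨rfl, Units.ext ?_⟩
    change IsLocalRing.residue A w = 1
    rw [hw, map_sub, map_one, (IsLocalRing.residue_eq_zero_iff _).mpr hmem, sub_zero]
  rcases lt_trichotomy 0 (ev hϖ a) with ha | ha | ha
  · exact Or.inl ⟨ha, pos a b h ha⟩
  · rcases lt_trichotomy 0 (ev hϖ b) with hb | hb | hb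
    · exact Or.inr (Or.inl ⟨hb, pos b a (by rw [add_comm]; exact h) hb⟩)
    · refine Or.inr (Or.inr (Or.inr ⟨ha.symm, hb.symm, ?_⟩))
      obtain ⟨e, u, rfl⟩ := exists_decomp hϖ a
      obtain ⟨f, w, rfl⟩ := exists_decomp hϖ b
      rw [(ev_rv_eq hϖ _ _).1] at ha hb
      subst ha hb
      rw [(ev_rv_eq hϖ _ _).2, (ev_rv_eq hϖ _ _).2]
      have huw : (u : A) + (w : A) = 1 := IsFractionRing.injective A L (by simpa [unitToFrac] using h)
      change IsLocalRing.residue A u + IsLocalRing.residue A w = 1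
      rw [← map_add, huw, map_one]
    · exfalso
      have hb' : 0 < ev hϖ b⁻¹ := by
        have h1 := ev_mul hϖ b b⁻¹
        rw [mul_inv_cancel, show (1 : Lˣ) = unitToFrac A L 1 from (map_one _).symm, (ev_unit hϖ 1).1] at h1
        omega
      have h2 : ((b⁻¹ : Lˣ) : L) + ((-(a * b⁻¹) : Lˣ) : L) = 1 := by
        simp only [Units.val_neg, Units.val_mul, Units.val_inv_eq_inv_val]
        field_simp
        linear_combination -h
      obtain ⟨h3, -⟩ := pos _ _ h2 hb'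
      rw [neg_eq_neg_one_mul, ev_mul, ev_mul, show (-1 : Lˣ) = unitToFrac A L (-1) by
        refine Units.ext ?_; simp [unitToFrac], (ev_unit hϖ _).1] at h3
      omega
  · have ha' : 0 < ev hϖ a⁻¹ := by
      have h1 := ev_mul hϖ a a⁻¹
      rw [mul_inv_cancel, show (1 : Lˣ) = unitToFrac A L 1 from (map_one _).symm, (ev_unit hϖ 1).1] at h1
      omega
    have h2 : ((a⁻¹ : Lˣ) : L) + ((-(b * a⁻¹) : Lˣ) : L) = 1 := by
      simp only [Units.val_neg, Units.val_mul, Units.val_inv_eq_inv_val]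
      field_simp
      linear_combination -h
    obtain ⟨h3, h4⟩ := pos _ _ h2 ha'
    have h5 : b = -(-(b * a⁻¹)) * a := by rw [neg_neg, inv_mul_cancel_right]
    have hneg : ∀ x : Lˣ, ev hϖ (-x) = ev hϖ x ∧ rv hϖ (-x) = -rv hϖ x := fun x => by
      rw [neg_eq_neg_one_mul, ev_mul, rv_mul, show (-1 : Lˣ) = unitToFrac A L (-1) by
        refine Units.ext ?_; simp [unitToFrac], (ev_unit hϖ _).1, (ev_unit hϖ _).2]
      refine ⟨zero_add _, Units.ext ?_⟩
      simp [unitResidue]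
    refine Or.inr (Or.inr (Or.inl ⟨?_, ha, ?_⟩))
    · rw [h5, ev_mul, (hneg _).1, h3, zero_add]
    · rw [h5, rv_mul, (hneg _).2, h4, neg_one_mul]

theorem sv_steinberg_head {n : ℕ} (a b : Lˣ) (h : (a : L) + (b : L) = 1) (r : Fin n → Lˣ) :
    sv hϖ (n + 2) (Fin.cons a (Fin.cons b r)) = 0 := by
  rw [sv_cons, sv_cons]
  rcases steinberg_key hϖ a b h with ⟨-, -, hb⟩ | ⟨-, -, ha⟩ | ⟨-, -, hb⟩ | ⟨-, -, hab⟩
  · rw [hb, pre_one, map_zero]
  · rw [ha, pre_one]
  · rw [hb, pre_pre_neg]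
  · exact pre_pre_steinberg _ _ hab _

theorem dv_steinberg_head : ∀ {n : ℕ} (a b : Lˣ), (a : L) + (b : L) = 1 → ∀ r : Fin n → Lˣ,
    dv hϖ (n + 1) (Fin.cons a (Fin.cons b r)) = 0
  | 0, a, b, h, r => by
    simp only [dv_cons, dv_zero, sv_cons, Fin.cons_zero, map_zsmul]
    rw [show (symbol ![] : K κ 0) = sv hϖ 0 r from rfl]
    rcases steinberg_key hϖ a b h with ⟨-, hb0, hb⟩ | ⟨-, ha0, ha⟩ | ⟨he, -, hb⟩ | ⟨ha0, hb0, -⟩
    · simp [hb0, hb, pre_one]
    · simp [ha0, ha, pre_one]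
    · rw [hb, show pre (-rv hϖ a) (sv hϖ 0 r) = pre (-1) (sv hϖ 0 r) + pre (rv hϖ a) (sv hϖ 0 r) by
        rw [← pre_mul, neg_one_mul], ← he]
      obtain ⟨c, hc⟩ := Int.even_mul_succ_self (ev hϖ a)
      have h2 : c • (pre (-1 : κˣ) (sv hϖ 0 r) + pre (-1) (sv hϖ 0 r)) = 0 := by rw [pre_two, smul_zero]
      have h3 : (ev hϖ a * (ev hϖ a + 1)) • pre (-1 : κˣ) (sv hϖ 0 r) = 0 := by
        rw [hc, add_smul, ← smul_add, pre_two, smul_zero]
      linear_combination (norm := module) h3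
    · simp [ha0, hb0]
  | n + 1, a, b, h, r => by
    simp only [dv_cons, sv_cons, map_zsmul, map_add, map_sub]
    rcases steinberg_key hϖ a b h with ⟨-, hb0, hb⟩ | ⟨-, ha0, ha⟩ | ⟨he, -, hb⟩ | ⟨ha0, hb0, hab⟩
    · simp [hb0, hb, pre_one]
    · simp [ha0, ha, pre_one]
    · rw [hb, ← he]
      set D := dv hϖ n r
      set S := sv hϖ (n + 1) r
      set e := ev hϖ a
      set u := rv hϖ a
      have hn : ∀ {m : ℕ} (z : K κ m), pre (-u) z = pre (-1) z + pre u z := fun z => by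
        rw [← pre_mul, neg_one_mul]
      rw [pre_pre_neg u D, hn D, hn S, map_add]
      have h2 := pre_pre_comm (-1) u D
      rw [h2]
      obtain ⟨c, hc⟩ := Int.even_mul_succ_self e
      obtain ⟨c', hc'⟩ := Int.even_mul_pred_self e
      have h3 : (e * (e + 1)) • pre (-1 : κˣ) S = 0 := by rw [hc, add_smul, ← smul_add, pre_two, smul_zero]
      have h4 : (e * (e - 1)) • pre (-1 : κˣ) (pre (-1) D) = 0 := by rw [hc', add_smul, ← smul_add, pre_two, smul_zero]
      linear_combination (norm := module) h3 + h4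
    · simp [ha0, hb0, pre_pre_steinberg _ _ hab]

theorem isSteinberg_tail {n : ℕ} {x : Fin (n + 1) → Lˣ} {i j : Fin (n + 1)} (hij : i < j)
    (h : (x i : L) + (x j : L) = 1) (hi : i ≠ 0) : IsSteinberg L (Fin.tail x) := by
  obtain ⟨i', rfl⟩ := Fin.exists_succ_eq.mpr hi
  obtain ⟨j', rfl⟩ := Fin.exists_succ_eq.mpr (Fin.ne_zero_of_lt hij)
  exact ⟨i', j', Fin.succ_lt_succ_iff.mp hij, h⟩

theorem sv_steinberg : ∀ {n : ℕ} (x : Fin n → Lˣ), IsSteinberg L x → sv hϖ n x = 0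
  | 0, _, h => by obtain ⟨i, -⟩ := h; exact i.elim0
  | 1, _, h => by obtain ⟨i, j, hij, -⟩ := h; omega
  | n + 2, x, h => by
    obtain ⟨i, j, hij, h⟩ := h
    rw [← Fin.cons_self_tail x]
    by_cases hi : i = 0
    · subst hi
      obtain ⟨j', rfl⟩ := Fin.exists_succ_eq.mpr (Fin.ne_zero_of_lt hij)
      rw [← Fin.cons_self_tail (Fin.tail x)]
      by_cases hj : j' = 0
      · subst hj; exact sv_steinberg_head hϖ _ _ h _
      · rw [sv_swap, sv_cons, sv_steinberg (Fin.cons (x 0) (Fin.tail (Fin.tail x))) ?_, map_zero, neg_zero]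
        obtain ⟨j'', rfl⟩ := Fin.exists_succ_eq.mpr hj
        exact ⟨0, j''.succ, Fin.succ_pos _, h⟩
    · rw [sv_cons, sv_steinberg _ (isSteinberg_tail hij h hi), map_zero]

theorem dv_steinberg : ∀ {n : ℕ} (x : Fin (n + 1) → Lˣ), IsSteinberg L x → dv hϖ n x = 0
  | 0, _, h => by obtain ⟨i, j, hij, -⟩ := h; omega
  | n + 1, x, h => by
    obtain ⟨i, j, hij, h⟩ := h
    rw [← Fin.cons_self_tail x]
    by_cases hi : i = 0
    · subst hi
      obtain ⟨j', rfl⟩ := Fin.exists_succ_eq.mpr (Fin.ne_zero_of_lt hij)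
      rw [← Fin.cons_self_tail (Fin.tail x)]
      by_cases hj : j' = 0
      · subst hj; exact dv_steinberg_head hϖ _ _ h _
      · obtain ⟨j'', rfl⟩ := Fin.exists_succ_eq.mpr hj
        have hs : IsSteinberg L (Fin.cons (x 0) (Fin.tail (Fin.tail x)) : Fin (n + 1) → Lˣ) :=
          ⟨0, j''.succ, Fin.succ_pos _, h⟩
        rw [dv_swap, dv_cons, sv_steinberg hϖ _ hs, dv_steinberg _ hs]
        simp
    · have hs := isSteinberg_tail hij h hi
      rw [dv_cons, sv_steinberg hϖ _ hs, dv_steinberg _ hs]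
      simp

theorem sv_eq : ∀ {n : ℕ} (e : Fin n → ℤ) (u : Fin n → Aˣ),
    sv hϖ n (fun i => un L ϖ hϖ ^ e i * unitToFrac A L (u i)) = symbol fun i => unitResidue A (u i)
  | 0, e, u => congrArg symbol (Subsingleton.elim _ _)
  | n + 1, e, u => by
    rw [← Fin.cons_self_tail (fun i => un L ϖ hϖ ^ e i * unitToFrac A L (u i)), sv_cons]
    change pre (rv hϖ (un L ϖ hϖ ^ e 0 * unitToFrac A L (u 0)))
      (sv hϖ n fun i => un L ϖ hϖ ^ Fin.tail e i * unitToFrac A L (Fin.tail u i)) = _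
    rw [(ev_rv_eq hϖ _ _).2, sv_eq, pre_symbol]
    exact congrArg symbol (funext fun k => Fin.cases rfl (fun _ => rfl) k)

theorem sv_unit {n : ℕ} (u : Fin n → Aˣ) :
    sv hϖ n (fun i => unitToFrac A L (u i)) = symbol fun i => unitResidue A (u i) := by
  simpa using sv_eq (L := L) hϖ (fun _ => 0) u

theorem dv_unit : ∀ {n : ℕ} (u : Fin (n + 1) → Aˣ), dv hϖ n (fun i => unitToFrac A L (u i)) = 0
  | 0, u => by rw [dv_zero, (ev_unit hϖ _).1, zero_smul]
  | n + 1, u => by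
    rw [← Fin.cons_self_tail (fun i => unitToFrac A L (u i)), dv_cons, (ev_unit hϖ _).1,
      show (Fin.tail fun i => unitToFrac A L (u i)) = fun i => unitToFrac A L (Fin.tail u i) from rfl,
      dv_unit]
    simp

/-- The tame symbol as a map on K-groups. -/
noncomputable def dK (n : ℕ) : K L (n + 1) →+ K κ n := lift (Dm hϖ n) fun x hx => dv_steinberg hϖ x hx

/-- The specialisation map on K-groups. -/
noncomputable def sK (n : ℕ) : K L n →+ K κ n := lift (Sm hϖ n) fun x hx => sv_steinberg hϖ x hx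

theorem dK_symbol {n : ℕ} (x : Fin (n + 1) → Lˣ) : dK hϖ n (symbol x) = dv hϖ n x := lift_symbol _ _ _

theorem sK_symbol {n : ℕ} (x : Fin n → Lˣ) : sK hϖ n (symbol x) = sv hϖ n x := lift_symbol _ _ _

theorem isSpecMap_sK (n : ℕ) : IsSpecMap A L ϖ hϖ n (sK hϖ n) := fun e u => by
  rw [sK_symbol]; exact sv_eq hϖ e u

theorem isTameSymbol_dK : ∀ n : ℕ, IsTameSymbol A L n (dK hϖ n)
  | 0 => fun ϖ' hϖ' u => by
    rw [dK_symbol, dv_zero, Fin.cons_zero]
    obtain ⟨w, hw⟩ := IsDiscreteValuationRing.associated_of_irreducible A hϖ hϖ'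
    have h : unitFrac A L ϖ' hϖ'.ne_zero = un L ϖ hϖ ^ (1 : ℤ) * unitToFrac A L w := Units.ext (by
      simp [unitToFrac, ← hw])
    rw [h, (ev_rv_eq hϖ _ _).1, one_smul]
    exact congrArg symbol (Subsingleton.elim _ _)
  | n + 1 => fun ϖ' hϖ' u => by
    rw [dK_symbol, dv_cons, dv_unit, sv_unit]
    obtain ⟨w, hw⟩ := IsDiscreteValuationRing.associated_of_irreducible A hϖ hϖ'
    have h : unitFrac A L ϖ' hϖ'.ne_zero = un L ϖ hϖ ^ (1 : ℤ) * unitToFrac A L w := Units.ext (by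
      simp [unitToFrac, ← hw])
    rw [h, (ev_rv_eq hϖ _ _).1]
    simp

variable (A L) in
/-- The subgroup generated by symbols of units of `A`. -/
noncomputable def U (n : ℕ) : AddSubgroup (K L n) :=
  AddSubgroup.closure {z : K L n | ∃ u : Fin n → Aˣ, z = symbol (fun i => unitToFrac A L (u i))}

theorem pre_mem_U {n : ℕ} (c : Aˣ) {z : K L n} (hz : z ∈ U A L n) : pre (unitToFrac A L c) z ∈ U A L (n + 1) := by
  refine AddSubgroup.closure_induction (p := fun z _ => pre (unitToFrac A L c) z ∈ U A L (n + 1)) ?_ ?_ ?_ ?_ hz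
  · rintro _ ⟨u, rfl⟩
    exact AddSubgroup.subset_closure ⟨Fin.cons c u, by
      rw [pre_symbol]; exact congrArg symbol (funext fun k => Fin.cases rfl (fun _ => rfl) k)⟩
  · rw [map_zero]; exact zero_mem _
  · intro a b _ _ ha hb; rw [map_add]; exact add_mem ha hb
  · intro a _ ha; rw [map_neg]; exact neg_mem ha

theorem symbol_empty_mem_U : (symbol ![] : K L 0) ∈ U A L 0 :=
  AddSubgroup.subset_closure ⟨![], congrArg symbol (Subsingleton.elim _ _)⟩

theorem unitToFrac_neg_one : unitToFrac A L (-1) = -1 := Units.ext (by simp [unitToFrac])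

include hϖ in
theorem exists_decomp_symbol : ∀ {n : ℕ} (x : Fin (n + 1) → Lˣ),
    ∃ a ∈ U A L n, ∃ b ∈ U A L (n + 1), (symbol x : K L (n + 1)) = pre (un L ϖ hϖ) a + b
  | 0, x => by
    obtain ⟨e, u, he⟩ := exists_decomp hϖ (x 0)
    refine ⟨e • symbol ![], zsmul_mem symbol_empty_mem_U e, pre (unitToFrac A L u) (symbol ![]),
      pre_mem_U u symbol_empty_mem_U, ?_⟩
    rw [map_zsmul, ← pre_zpow, ← pre_mul, ← he, pre_symbol]
    exact congrArg symbol (funext fun k => Fin.cases rfl (fun i => i.elim0) k)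
  | n + 1, x => by
    obtain ⟨e, u, he⟩ := exists_decomp hϖ (x 0)
    obtain ⟨a, ha, b, hb, hab⟩ := exists_decomp_symbol (Fin.tail x)
    refine ⟨e • pre (-1) a + e • b - pre (unitToFrac A L u) a, sub_mem (add_mem (zsmul_mem ?_ e) (zsmul_mem hb e))
      (pre_mem_U u ha), pre (unitToFrac A L u) b, pre_mem_U u hb, ?_⟩
    · rw [← unitToFrac_neg_one (A := A)]; exact pre_mem_U _ ha
    · rw [← Fin.cons_self_tail x, ← pre_symbol, he, pre_mul, pre_zpow, hab, map_add, map_add, pre_pre_self,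
        pre_pre_comm (unitToFrac A L u) (un L ϖ hϖ) a, map_sub, map_add, map_zsmul, map_zsmul]
      module

include hϖ in
theorem exists_decomp_K {n : ℕ} (z : K L (n + 1)) :
    ∃ a ∈ U A L n, ∃ b ∈ U A L (n + 1), z = pre (un L ϖ hϖ) a + b := by
  induction z using induction_symbol with
  | h0 => exact ⟨0, zero_mem _, 0, zero_mem _, by simp⟩
  | hs x => exact exists_decomp_symbol hϖ x
  | hadd z w hz hw =>
    obtain ⟨a, ha, b, hb, rfl⟩ := hz; obtain ⟨a', ha', b', hb', rfl⟩ := hw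
    exact ⟨a + a', add_mem ha ha', b + b', add_mem hb hb', by rw [map_add]; abel⟩
  | hneg z hz =>
    obtain ⟨a, ha, b, hb, rfl⟩ := hz
    exact ⟨-a, neg_mem ha, -b, neg_mem hb, by rw [map_neg]; abel⟩

theorem tame_pre {n : ℕ} {d : K L (n + 1) →+ K κ n} (hd : IsTameSymbol A L n d) (u : Fin n → Aˣ) :
    d (pre (un L ϖ hϖ) (symbol fun i => unitToFrac A L (u i))) = symbol fun i => unitResidue A (u i) := by
  rw [pre_symbol]; exact hd ϖ hϖ u

include hϖ in
theorem tame_U {n : ℕ} {d : K L (n + 1) →+ K κ n} (hd : IsTameSymbol A L n d) {z : K L (n + 1)}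
    (hz : z ∈ U A L (n + 1)) : d z = 0 := by
  refine AddSubgroup.closure_induction (p := fun z _ => d z = 0) ?_ (map_zero d) ?_ ?_ hz
  · rintro _ ⟨u, rfl⟩
    have hirr : Irreducible (ϖ * (u 0 : A)) := (irreducible_mul_units _).mpr hϖ
    have h1 := hd _ hirr (Fin.tail u)
    have h2 := hd ϖ hϖ (Fin.tail u)
    have e : unitFrac A L (ϖ * (u 0 : A)) hirr.ne_zero = un L ϖ hϖ * unitToFrac A L (u 0) :=
      Units.ext (by simp [unitToFrac])
    rw [e, ← pre_symbol, pre_mul, map_add] at h1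
    rw [← pre_symbol] at h2
    rw [h2] at h1
    have h3 : d (pre (unitToFrac A L (u 0)) (symbol fun i => unitToFrac A L (Fin.tail u i))) = 0 := by
      simpa using h1
    rw [pre_symbol] at h3
    convert h3 using 3
    exact funext fun k => Fin.cases rfl (fun _ => rfl) k
  · intro a b _ _ ha hb; rw [map_add, ha, hb, add_zero]
  · intro a _ ha; rw [map_neg, ha, neg_zero]

theorem spec_U {n : ℕ} {s : K L n →+ K κ n} (hs : IsSpecMap A L ϖ hϖ n s) (u : Fin n → Aˣ) :
    s (symbol fun i => unitToFrac A L (u i)) = symbol fun i => unitResidue A (u i) := by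
  simpa using hs (fun _ => 0) u

include hϖ in
/-- A map out of `K L (n+1)` is determined on uniformiser-unit and unit symbols. -/
theorem hom_ext_dvr {M : Type w} [AddCommGroup M] {n : ℕ} {f g : K L (n + 1) →+ M}
    (hp : ∀ u : Fin n → Aˣ, f (pre (un L ϖ hϖ) (symbol fun i => unitToFrac A L (u i))) =
      g (pre (un L ϖ hϖ) (symbol fun i => unitToFrac A L (u i))))
    (hu : ∀ u : Fin (n + 1) → Aˣ, f (symbol fun i => unitToFrac A L (u i)) = g (symbol fun i => unitToFrac A L (u i))) :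
    f = g := by
  refine DFunLike.ext _ _ fun z => ?_
  obtain ⟨a, ha, b, hb, rfl⟩ := exists_decomp_K hϖ z
  rw [map_add, map_add]
  have e1 : Set.EqOn (f.comp (pre (un L ϖ hϖ))) (g.comp (pre (un L ϖ hϖ))) (U A L n : Set (K L n)) :=
    AddMonoidHom.eqOn_closure (by rintro _ ⟨u, rfl⟩; exact hp u)
  have e2 : Set.EqOn f g (U A L (n + 1) : Set (K L (n + 1))) :=
    AddMonoidHom.eqOn_closure (by rintro _ ⟨u, rfl⟩; exact hu u)
  rw [e2 hb]
  exact congrArg (· + g b) (e1 ha)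

end Groth.L11.MilK
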